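import Groth.Agent.Sga4A.JSDesc
import Groth.Agent.Sga4A.EpsSect
import Groth.Agent.Sga4A.GiraudVK
import Mathlib.CategoryTheory.Limits.Shapes.Diagonal

/-! Criterion for a cofan in a topos of sheaves to be a coproduct: jointly epimorphic, monomorphic
and disjoint; the case of associated sheaves of representable presheaves. -/

set_option autoImplicit false
universe u
open CategoryTheory CategoryTheory.Limits Opposite ToposFin
open Groth.Agent.Sga4A Groth.Agent.Sga4A.QC Groth.Agent.Sga4A.EpsSect

namespace K290.CoprodCrit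

variable {C : Type u} [SmallCategory C] {J : GrothendieckTopology C}

/-- A jointly epimorphic disjoint family of monomorphisms is a coproduct. -/
theorem isColimit_of {ι : Type u} {X : Sh J} {F : ι → Sh J} {π : ∀ i, F i ⟶ X} (h : JS π)
    {P : ι → ι → Sh J} {p : ∀ i j, P i j ⟶ F i} {q : ∀ i j, P i j ⟶ F j}
    (hP : ∀ i j, IsPullback (p i j) (q i j) (π i) (π j)) (hm : ∀ i, p i i = q i i)
    (hd : ∀ i j, i ≠ j → Nonempty (IsInitial (P i j))) :
    Nonempty (IsColimit (Cofan.mk X π)) := by
  have hex : ∀ (T : Sh J) (t : ∀ i, F i ⟶ T), ∃ s : X ⟶ T, ∀ i, π i ≫ s = t i := by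
    intro T t
    refine JSDesc.exists_desc_pullback h t hP ?_
    intro i j
    by_cases hij : i = j
    · subst hij
      rw [hm]
    · obtain ⟨hi⟩ := hd i j hij
      exact hi.hom_ext _ _
  choose d hd' using fun (T : Sh J) (t : ∀ i, F i ⟶ T) => hex T t
  exact ⟨Cofan.IsColimit.mk _ (fun t => d t.pt t.inj) (fun t i => hd' t.pt t.inj i)
    (fun t m hm => h.hom_ext (fun i => (hm i).trans (hd' t.pt t.inj i).symm))⟩

/-- A coproduct is a jointly epimorphic disjoint family of monomorphisms. -/
theorem of_isColimit {ι : Type u} {X : Sh J} {F : ι → Sh J} {π : ∀ i, F i ⟶ X}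
    (h : IsColimit (Cofan.mk X π)) :
    JS π ∧ (∀ i, Mono (π i)) ∧
      ∀ i j, i ≠ j → ∀ {P : Sh J} {p : P ⟶ F i} {q : P ⟶ F j},
        IsPullback p q (π i) (π j) → Nonempty (IsInitial P) := by
  have hvk := GiraudVK.isVanKampenColimit_sheaf h
  refine ⟨js_of_epiFamily (fun Z a b hab => Cofan.IsColimit.hom_ext h _ _ hab), ?_, ?_⟩
  · intro i
    exact mono_of_cofan_isVanKampen hvk ⟨i⟩
  · intro i j hij P p q hP
    have := isPullback_initial_to_of_cofan_isVanKampen hvk ⟨i⟩ ⟨j⟩
      (fun h => hij (congrArg Discrete.as h))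
    exact ⟨initialIsInitial.ofIso (this.isoIsPullback _ _ hP)⟩

/-- The family of associated sheaves is jointly epimorphic iff the family is covering. -/
theorem js_eps_iff {X : C} {ι : Type u} (Y : ι → C) (s : ∀ i, Y i ⟶ X) :
    JS (fun i => (presheafToSheaf J (Type u)).map (yoneda.map (s i))) ↔
      Sieve.ofArrows Y s ∈ J X := by
  constructor
  · intro h
    obtain ⟨S, hS, h⟩ := h X (sect J (𝟙 X))
    refine J.transitive hS _ ?_
    intro V g hg
    obtain ⟨i, x, hx⟩ := h V g hg
    obtain ⟨R, hR, hR'⟩ := exists_sect J x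
    refine J.transitive hR _ ?_
    intro W r hr
    obtain ⟨k, hk⟩ := hR' W r hr
    have h1 : sect J (k ≫ s i) = sect J (r ≫ g) := by
      rw [← eps_map_sect, hk]
      have h2 := NatTrans.naturality_apply
        ((presheafToSheaf J (Type u)).map (yoneda.map (s i))).hom r.op x
      refine h2.trans ?_
      refine (congrArg _ hx).trans ?_
      change (eps J X).obj.map r.op ((eps J X).obj.map g.op (sect J (𝟙 X))) = _
      rw [map_sect, map_sect, Category.comp_id]
    obtain ⟨T, hT, hT'⟩ := eq_locally J _ _ h1
    refine J.superset_covering ?_ hT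
    intro Z t ht
    have h3 := hT' Z t ht
    change (Sieve.ofArrows Y s).arrows ((t ≫ r) ≫ g)
    rw [Category.assoc, ← h3, ← Category.assoc]
    exact Sieve.downward_closed _ (Sieve.ofArrows_mk Y s i) _
  · intro h U t
    obtain ⟨R, hR, hR'⟩ := exists_sect J t
    -- the sieve of arrows `v` such that the restriction of `t` comes from some `Y i`
    let T : Sieve U :=
      { arrows := fun V v => ∃ (i : ι) (x : (eps J (Y i)).obj.obj (op V)),
          ((presheafToSheaf J (Type u)).map (yoneda.map (s i))).hom.app (op V) x =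
            (eps J X).obj.map v.op t
        downward_closed := by
          rintro V W v ⟨i, x, hx⟩ w
          refine ⟨i, (eps J (Y i)).obj.map w.op x, ?_⟩
          have h2 := NatTrans.naturality_apply
            ((presheafToSheaf J (Type u)).map (yoneda.map (s i))).hom w.op x
          refine h2.trans ?_
          refine (congrArg _ hx).trans ?_
          change (eps J X).obj.map w.op ((eps J X).obj.map v.op t) = _
          rw [← Functor.map_comp_apply, ← op_comp] }
    refine ⟨T, ?_, fun V g hg => hg⟩
    refine J.transitive hR _ ?_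
    intro V g hg
    obtain ⟨f, hf⟩ := hR' V g hg
    refine J.superset_covering ?_ (J.pullback_stable f h)
    intro W w hw
    obtain ⟨Z, a, b, ⟨i⟩, hab⟩ := hw
    refine ⟨i, sect J a, ?_⟩
    have h1 := eps_map_sect J a (s i)
    refine h1.trans ?_
    rw [hab, ← map_sect, hf, op_comp, Functor.map_comp_apply]

/-- S12108. -/
theorem main {X : C} {ι : Type u} (Y : ι → C) (s : ∀ i, Y i ⟶ X) :
    (Sieve.ofArrows Y s ∈ J X ∧
      (∀ i, IsIso ((presheafToSheaf J (Type u)).map (pullback.diagonal (yoneda.map (s i))))) ∧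
      (∀ i j, i ≠ j → Nonempty (IsInitial ((presheafToSheaf J (Type u)).obj
        (pullback (yoneda.map (s i)) (yoneda.map (s j))))))) ↔
    Nonempty (IsColimit (Cofan.mk ((presheafToSheaf J (Type u)).obj (yoneda.obj X))
      (fun i => (presheafToSheaf J (Type u)).map (yoneda.map (s i))))) := by
  have hP : ∀ i j, IsPullback
      ((presheafToSheaf J (Type u)).map (pullback.fst (yoneda.map (s i)) (yoneda.map (s j))))
      ((presheafToSheaf J (Type u)).map (pullback.snd (yoneda.map (s i)) (yoneda.map (s j))))
      ((presheafToSheaf J (Type u)).map (yoneda.map (s i)))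
      ((presheafToSheaf J (Type u)).map (yoneda.map (s j))) := fun i j =>
    (IsPullback.of_hasPullback (yoneda.map (s i)) (yoneda.map (s j))).map _
  have h1 : ∀ i, (presheafToSheaf J (Type u)).map (pullback.diagonal (yoneda.map (s i))) ≫
      (presheafToSheaf J (Type u)).map (pullback.fst (yoneda.map (s i)) (yoneda.map (s i))) =
        𝟙 _ := fun i => by
    rw [← Functor.map_comp, pullback.diagonal_fst, CategoryTheory.Functor.map_id]
  have h2 : ∀ i, (presheafToSheaf J (Type u)).map (pullback.diagonal (yoneda.map (s i))) ≫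
      (presheafToSheaf J (Type u)).map (pullback.snd (yoneda.map (s i)) (yoneda.map (s i))) =
        𝟙 _ := fun i => by
    rw [← Functor.map_comp, pullback.diagonal_snd, CategoryTheory.Functor.map_id]
  constructor
  · rintro ⟨hc, hd, hi⟩
    refine isColimit_of ((js_eps_iff Y s).2 hc) hP (fun i => ?_) hi
    have := hd i
    rw [← cancel_epi ((presheafToSheaf J (Type u)).map (pullback.diagonal (yoneda.map (s i)))),
      h1, h2]
  · rintro ⟨h⟩
    obtain ⟨ha, hb, hc⟩ := of_isColimit h
    refine ⟨(js_eps_iff Y s).1 ha, fun i => ?_, fun i j hij => hc i j hij (hP i j)⟩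
    have := hb i
    have h3 := (hP i i).isIso_fst_of_mono
    exact IsIso.of_isIso_fac_right (h1 i)

end K290.CoprodCrit
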