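import Groth.Agent.SGA4.K290.LanYoneda
import Mathlib.CategoryTheory.Functor.KanExtension.Adjunction
import Mathlib.CategoryTheory.Limits.Indization.IndObject
import Mathlib.CategoryTheory.Filtered.Final
import Mathlib.CategoryTheory.Elements
import Mathlib.CategoryTheory.Limits.Types.Colimits

/-! Ind-objects and left Kan extension along a fully faithful functor such that every object of the
target is a retract of an object in the image. -/

set_option autoImplicit false
universe u
open CategoryTheory CategoryTheory.Limits Opposite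

namespace K290.IndRetract

variable {C : Type u} [SmallCategory C] {C' : Type u} [SmallCategory C'] (u : C ⥤ C')

/-- The functor on categories of elements induced by `u`. -/
@[simps]
def elemMap (G : C'ᵒᵖ ⥤ Type u) : (u.op ⋙ G).Elements ⥤ G.Elements where
  obj p := ⟨u.op.obj p.1, p.2⟩
  map f := ⟨u.op.map f.1, f.2⟩

lemma elemMap_full [u.Full] (G : C'ᵒᵖ ⥤ Type u) : (elemMap u G).Full where
  map_surjective {p q} f := by
    obtain ⟨g, hg⟩ := u.op.map_surjective f.1
    exact ⟨⟨g, by
      have := f.2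
      rw [← hg] at this
      exact this⟩, Subtype.ext hg⟩

lemma elemMap_faithful [u.Faithful] (G : C'ᵒᵖ ⥤ Type u) : (elemMap u G).Faithful where
  map_injective {p q f g} h := by
    apply Subtype.ext
    apply u.op.map_injective
    exact congrArg Subtype.val h

lemma isIndObject_restrict [u.Full] [u.Faithful]
    (h : ∀ X' : C', ∃ (X : C) (i : X' ⟶ u.obj X) (r : u.obj X ⟶ X'), i ≫ r = 𝟙 X')
    (G : C'ᵒᵖ ⥤ Type u) (hG : IsIndObject G) : IsIndObject (u.op ⋙ G) := by
  have h1 : IsFiltered (CostructuredArrow yoneda G) := ((isIndObject_iff G).1 hG).1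
  have h2 : IsFiltered G.Elementsᵒᵖ :=
    IsFiltered.of_equivalence (CategoryOfElements.costructuredArrowYonedaEquivalence G).symm
  have := elemMap_full u G
  have := elemMap_faithful u G
  have h3 : IsFiltered (u.op ⋙ G).Elementsᵒᵖ := by
    refine IsFiltered.of_exists_of_isFiltered_of_fullyFaithful (elemMap u G).op ?_
    rintro ⟨X', x'⟩
    obtain ⟨X, i, r, hir⟩ := h X'.unop
    refine ⟨op ⟨op X, G.map r.op x'⟩, ⟨Quiver.Hom.op ?_⟩⟩
    refine ⟨i.op, ?_⟩
    change G.map i.op (G.map r.op x') = x'
    rw [← Functor.map_comp_apply, ← op_comp, hir]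
    exact ConcreteCategory.congr_hom (G.map_id X') x'
  have h4 : IsFiltered (CostructuredArrow yoneda (u.op ⋙ G)) :=
    IsFiltered.of_equivalence (CategoryOfElements.costructuredArrowYonedaEquivalence (u.op ⋙ G))
  have h5 : EssentiallySmall.{u} (CostructuredArrow yoneda (u.op ⋙ G)) :=
    (essentiallySmall_congr (CategoryOfElements.costructuredArrowYonedaEquivalence (u.op ⋙ G))).1
      inferInstance
  exact (isIndObject_iff _).2 ⟨h4, finallySmall_of_essentiallySmall.{u} _⟩

/-- The left Kan extension functor. -/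
noncomputable abbrev lan : (Cᵒᵖ ⥤ Type u) ⥤ (C'ᵒᵖ ⥤ Type u) := u.op.lan

/-- The adjunction. -/
noncomputable abbrev adj : lan u ⊣ (Functor.whiskeringLeft _ _ (Type u)).obj u.op :=
  u.op.lanAdjunction (Type u)

/-- Sections of `u_! F` come from sections of `F`. -/
lemma exists_section (F : Cᵒᵖ ⥤ Type u) {X' : C'} (s : ((lan u).obj F).obj (op X')) :
    ∃ (X : C) (i : X' ⟶ u.obj X) (x : F.obj (op X)),
      s = ((lan u).obj F).map i.op (((adj u).unit.app F).app (op X) x) := by
  have h := u.op.isPointwiseLeftKanExtensionLeftKanExtensionUnit F (op X')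
  obtain ⟨j, x, hx⟩ := Types.jointly_surjective_of_isColimit h s
  refine ⟨j.left.unop, j.hom.unop, x, ?_⟩
  rw [← hx]
  rfl

lemma isIso_counit [u.Full] [u.Faithful]
    (h : ∀ X' : C', ∃ (X : C) (i : X' ⟶ u.obj X) (r : u.obj X ⟶ X'), i ≫ r = 𝟙 X')
    (G : C'ᵒᵖ ⥤ Type u) : IsIso ((adj u).counit.app G) := by
  have h1 : ∀ X : C, IsIso (((adj u).counit.app G).app (op (u.obj X))) := fun X => by
    have e : ((adj u).unit.app (u.op ⋙ G)).app (op X) ≫
        ((adj u).counit.app G).app (op (u.obj X)) = 𝟙 _ :=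
      congrArg (fun t => t.app (op X)) ((adj u).right_triangle_components G)
    have hu : IsIso (((adj u).unit.app (u.op ⋙ G)).app (op X)) := by
      infer_instance
    exact IsIso.of_isIso_fac_left e
  have h2 : ∀ X' : C', Function.Bijective (((adj u).counit.app G).app (op X')) := fun X' => by
    obtain ⟨X, i, r, hir⟩ := h X'
    have hX := (isIso_iff_bijective _).1 (h1 X)
    have hG : ∀ g, G.map i.op (G.map r.op g) = g := fun g => by
      rw [← Functor.map_comp_apply, ← op_comp, hir]
      exact ConcreteCategory.congr_hom (G.map_id (op X')) g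
    have hF : ∀ s, ((lan u).obj (u.op ⋙ G)).map i.op (((lan u).obj (u.op ⋙ G)).map r.op s) = s :=
      fun s => by
        rw [← Functor.map_comp_apply, ← op_comp, hir]
        exact ConcreteCategory.congr_hom (((lan u).obj (u.op ⋙ G)).map_id (op X')) s
    constructor
    · intro s t hst
      have h3 : ((lan u).obj (u.op ⋙ G)).map r.op s = ((lan u).obj (u.op ⋙ G)).map r.op t := by
        apply hX.1
        have e1 := NatTrans.naturality_apply ((adj u).counit.app G) r.op s
        have e2 := NatTrans.naturality_apply ((adj u).counit.app G) r.op t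
        exact e1.trans ((congrArg _ hst).trans e2.symm)
      rw [← hF s, ← hF t, h3]
    · intro g
      obtain ⟨s, hs⟩ := hX.2 (G.map r.op g)
      refine ⟨((lan u).obj (u.op ⋙ G)).map i.op s, ?_⟩
      have e1 := NatTrans.naturality_apply ((adj u).counit.app G) i.op s
      refine e1.trans ?_
      rw [hs]
      exact hG g
  have h3 : ∀ X', IsIso (((adj u).counit.app G).app X') := fun X' =>
    (isIso_iff_bijective _).2 (h2 X'.unop)
  exact NatIso.isIso_of_isIso_app _

/-- S12109. -/
theorem main :
    ((∀ (F G : Cᵒᵖ ⥤ Type u), IsIndObject F → IsIndObject G →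
        Function.Bijective (fun φ : F ⟶ G => (lan u).map φ)) ∧
      (∀ G' : C'ᵒᵖ ⥤ Type u, IsIndObject G' →
        ∃ F : Cᵒᵖ ⥤ Type u, IsIndObject F ∧ Nonempty ((lan u).obj F ≅ G'))) ↔
    ((u.Full ∧ u.Faithful) ∧
      ∀ X' : C', ∃ (X : C) (i : X' ⟶ u.obj X) (r : u.obj X ⟶ X'), i ≫ r = 𝟙 X') := by
  constructor
  · rintro ⟨h1, h2⟩
    refine ⟨?_, ?_⟩
    · have hF : (yoneda ⋙ lan u).Full := ⟨fun {X Y} f => by
        obtain ⟨φ, hφ⟩ := (h1 _ _ (isIndObject_yoneda X) (isIndObject_yoneda Y)).2 f
        obtain ⟨g, rfl⟩ := yoneda.map_surjective φ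
        exact ⟨g, hφ⟩⟩
      have hFa : (yoneda ⋙ lan u).Faithful := ⟨fun {X Y} f g hfg => by
        apply yoneda.map_injective
        exact (h1 _ _ (isIndObject_yoneda X) (isIndObject_yoneda Y)).1 hfg⟩
      have hF' : (u ⋙ yoneda).Full := Functor.Full.of_iso (LanYoneda.yonedaCompLan u)
      have hFa' : (u ⋙ yoneda).Faithful := Functor.Faithful.of_iso (LanYoneda.yonedaCompLan u)
      exact ⟨Functor.Full.of_comp_faithful u yoneda, Functor.Faithful.of_comp u yoneda⟩
    · intro X'
      obtain ⟨F, -, ⟨e⟩⟩ := h2 (yoneda.obj X') (isIndObject_yoneda X')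
      obtain ⟨X, i, x, hx⟩ := exists_section u F (e.inv.app (op X') (𝟙 X'))
      let r : u.obj X ⟶ X' := e.hom.app (op (u.obj X)) (((adj u).unit.app F).app (op X) x)
      refine ⟨X, i, r, ?_⟩
      have e1 := NatTrans.naturality_apply e.hom i.op (((adj u).unit.app F).app (op X) x)
      refine e1.symm.trans ?_
      rw [← hx]
      exact ConcreteCategory.congr_hom (NatTrans.congr_app e.inv_hom_id (op X')) (𝟙 X')
  · rintro ⟨⟨hf, hfa⟩, h⟩
    have hu : IsIso (adj u).unit := by
      infer_instance
    have hff : (lan u).FullyFaithful := (adj u).fullyFaithfulLOfIsIsoUnit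
    refine ⟨fun F G _ _ => hff.map_bijective F G, fun G' hG' => ?_⟩
    have := isIso_counit u h G'
    exact ⟨u.op ⋙ G', isIndObject_restrict u h G' hG', ⟨asIso ((adj u).counit.app G')⟩⟩

end K290.IndRetract
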