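import Groth.Agent.SGA4.K290.Canon
import Groth.Agent.Sga4A.GiraudAxioms
import Groth.Agent.Sga4A.GlueComma2
import Mathlib.CategoryTheory.Sites.EffectiveEpimorphic

/-! Effective universal equivalence relations and the canonical topology. -/

set_option autoImplicit false
universe u
open CategoryTheory CategoryTheory.Limits Opposite
open Groth.Agent Groth.Agent.Sga4A.QC

namespace K290.CanonQuot

open K290.Canon

variable {C : Type u} [SmallCategory C] [HasPullbacks C] {R X : C} {p₁ p₂ : R ⟶ X}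

/-- The Yoneda embedding preserves equivalence relations. -/
lemma isEquivRel_yoneda (hR : SGA4.IsEquivRel p₁ p₂) :
    SGA4.IsEquivRel (yoneda.map p₁) (yoneda.map p₂) := by
  intro T
  refine ⟨?_, ?_, ?_, ?_⟩
  · intro f g hfg
    have h1 := congrArg Prod.fst hfg
    have h2 := congrArg Prod.snd hfg
    dsimp only at h1 h2
    ext U t
    apply (hR U.unop).1
    refine Prod.ext ?_ ?_
    · exact ConcreteCategory.congr_hom (NatTrans.congr_app h1 U) t
    · exact ConcreteCategory.congr_hom (NatTrans.congr_app h2 U) t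
  · intro a
    obtain ⟨Δ, h₁, h₂⟩ := (hR X).2.refl (𝟙 X)
    refine ⟨a ≫ yoneda.map Δ, ?_, ?_⟩
    · rw [Category.assoc, ← Functor.map_comp, h₁, CategoryTheory.Functor.map_id, Category.comp_id]
    · rw [Category.assoc, ← Functor.map_comp, h₂, CategoryTheory.Functor.map_id, Category.comp_id]
  · rintro a b ⟨f, rfl, rfl⟩
    obtain ⟨σ, h₁, h₂⟩ := (hR R).2.symm ⟨𝟙 R, Category.id_comp p₁, Category.id_comp p₂⟩
    refine ⟨f ≫ yoneda.map σ, ?_, ?_⟩
    · rw [Category.assoc, ← Functor.map_comp, h₁]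
    · rw [Category.assoc, ← Functor.map_comp, h₂]
  · rintro a b c ⟨f, rfl, hf⟩ ⟨g, hg, rfl⟩
    obtain ⟨τ, h₁, h₂⟩ := (hR (pullback p₂ p₁)).2.trans
      (x := pullback.fst p₂ p₁ ≫ p₁) (y := pullback.fst p₂ p₁ ≫ p₂) (z := pullback.snd p₂ p₁ ≫ p₂)
      ⟨_, rfl, rfl⟩ ⟨_, pullback.condition.symm, rfl⟩
    have hP := (IsPullback.of_hasPullback p₂ p₁).map (yoneda (C := C))
    refine ⟨hP.lift f g (hf.trans hg.symm) ≫ yoneda.map τ, ?_, ?_⟩
    · rw [Category.assoc, ← Functor.map_comp, h₁, Functor.map_comp, hP.lift_fst_assoc]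
    · rw [Category.assoc, ← Functor.map_comp, h₂, Functor.map_comp, hP.lift_snd_assoc]

/-- `ε` preserves equivalence relations. -/
lemma isEquivRel_ε (hR : SGA4.IsEquivRel p₁ p₂) :
    SGA4.IsEquivRel ((ε C).map p₁) ((ε C).map p₂) :=
  Sga4A.GlueComma.isEquivRel_map
    (presheafToSheaf (Sheaf.canonicalTopology C) (Type u)) _ _ (isEquivRel_yoneda hR)

omit [HasPullbacks C] in
/-- A coequalizer of an equivalence relation is a pushout. -/
lemma isPushout_of_isColimit (hR : SGA4.IsEquivRel p₁ p₂) {Q : C} {q : X ⟶ Q}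
    (w : p₁ ≫ q = p₂ ≫ q) (hc : IsColimit (Cofork.ofπ q w)) : IsPushout p₁ p₂ q q := by
  obtain ⟨Δ, h₁, h₂⟩ := (hR X).2.refl (𝟙 X)
  have hs : ∀ {Z : C} (a b : X ⟶ Z), p₁ ≫ a = p₂ ≫ b → a = b := fun a b h => by
    have := congrArg (fun t => Δ ≫ t) h
    simpa [reassoc_of% h₁, reassoc_of% h₂] using this
  refine ⟨⟨w⟩, ⟨PushoutCocone.IsColimit.mk _
    (fun s => Cofork.IsColimit.desc hc s.inl (by rw [s.condition, hs _ _ s.condition]))
    (fun s => Cofork.IsColimit.π_desc' hc _ _)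
    (fun s => (Cofork.IsColimit.π_desc' hc _ _).trans (hs _ _ s.condition))
    (fun s m h₁ h₂ => Cofork.IsColimit.hom_ext hc ?_)⟩⟩
  exact h₁.trans (Cofork.IsColimit.π_desc' hc _ _).symm

/-- A pushout with equal legs is a coequalizer. -/
lemma isColimit_of_isPushout {E : Type*} [Category E] {R X : E} {p₁ p₂ : R ⟶ X}
    {Q : E} {q : X ⟶ Q} (h : IsPushout p₁ p₂ q q) :
    Nonempty (IsColimit (Cofork.ofπ q h.w)) := by
  refine ⟨Cofork.IsColimit.mk _ (fun s => h.desc s.π s.π s.condition)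
    (fun s => h.inl_desc _ _ _) (fun s m hm => h.hom_ext ?_ ?_)⟩
  · exact hm.trans (h.inl_desc _ _ _).symm
  · exact hm.trans (h.inr_desc _ _ _).symm

omit [HasPullbacks C] in
/-- An effective epimorphism satisfies the sheaf condition for representable presheaves, and
conversely. -/
lemma effectiveEpi_iff {A B : C} (f : A ⟶ B) :
    EffectiveEpi f ↔ ∀ Z : C, Presieve.IsSheafFor (yoneda.obj Z)
      (Presieve.ofArrows (fun _ : PUnit.{u + 1} => A) (fun _ => f)) := by
  rw [← Sieve.effectiveEpimorphic_singleton, Presieve.EffectiveEpimorphic.iff_forall_isSheafFor_yoneda,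
    Presieve.ofArrows_pUnit]

/-- A universally effective epimorphism is covering for the canonical topology. -/
lemma mem_canonical_of_univ {A B : C} (f : A ⟶ B)
    (h : ∀ (B' : C) (g : B' ⟶ B), EffectiveEpi (pullback.snd f g)) :
    Sieve.ofArrows (fun _ : PUnit.{u + 1} => A) (fun _ => f) ∈ Sheaf.canonicalTopology C B :=
  mem_canonical (fun _ : PUnit.{u + 1} => f)
    (fun X' g Z => (effectiveEpi_iff (pullback.snd f g)).1 (h X' g) Z)

omit [HasPullbacks C] in
/-- In the topos, an epimorphism is the coequalizer of its kernel pair. -/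
lemma isColimit_of_epi {J : GrothendieckTopology C} {R X Q : Sheaf J (Type u)} {p₁ p₂ : R ⟶ X}
    {q : X ⟶ Q} [Epi q] (h : IsPullback p₁ p₂ q q) :
    Nonempty (IsColimit (Cofork.ofπ q h.w)) := by
  have hj : JS (fun _ : PUnit.{u + 1} => q) := (js_punit q).2 inferInstance
  have hex : ∀ s : Cofork p₁ p₂, ∃ d : Q ⟶ s.pt, q ≫ d = s.π := fun s => by
    obtain ⟨d, hd⟩ := Sga4A.JSDesc.exists_desc_pullback hj (fun _ => s.π)
      (P := fun _ _ => R) (p := fun _ _ => p₁) (q := fun _ _ => p₂) (fun _ _ => h)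
      (fun _ _ => s.condition)
    exact ⟨d, hd ⟨⟩⟩
  choose d hd using hex
  exact ⟨Cofork.IsColimit.mk _ d hd (fun s m hm => by
    rw [← cancel_epi q]
    exact hm.trans (hd s).symm)⟩

omit [HasPullbacks C] in
lemma nonempty_mapCocone_iff {D : Type*} [Category D] (F : C ⥤ D) {Q : C} {q : X ⟶ Q}
    (w : p₁ ≫ q = p₂ ≫ q) :
    Nonempty (IsColimit (F.mapCocone (Cofork.ofπ q w))) ↔
      Nonempty (IsColimit (Cofork.ofπ (F.map q) (by rw [← F.map_comp, w, F.map_comp]) :
        Cofork (F.map p₁) (F.map p₂))) :=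
  ⟨fun ⟨h⟩ => ⟨isColimitMapCoconeCoforkEquiv F w h⟩,
    fun ⟨h⟩ => ⟨(isColimitMapCoconeCoforkEquiv F w).symm h⟩⟩

theorem forward (c : Cofork p₁ p₂) (hc : IsColimit c)
    (h : SGA4.IsEffectiveUniversalEquivRel p₁ p₂) :
    Nonempty (IsColimit ((ε C).mapCocone c)) := by
  obtain ⟨B, π, hpb, hpo, hu⟩ := h
  obtain ⟨hc'⟩ := isColimit_of_isPushout hpo
  have hpb' := hpb.map (ε C)
  have hepi : Epi ((ε C).map π) := by
    rw [← js_punit]
    exact (CoprodCrit.js_eps_iff (fun _ : PUnit.{u + 1} => X) (fun _ => π)).2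
      (mem_canonical_of_univ π hu)
  obtain ⟨h1⟩ := (nonempty_mapCocone_iff (ε C) hpb.w).2 (isColimit_of_epi hpb')
  exact ⟨h1.ofIsoColimit ((Cocone.functoriality _ (ε C)).mapIso (hc'.uniqueUpToIso hc))⟩

theorem backward (hR : SGA4.IsEquivRel p₁ p₂) {Q : C} {q : X ⟶ Q} (w : p₁ ≫ q = p₂ ≫ q)
    (hc : IsColimit (Cofork.ofπ q w))
    (h : Nonempty (IsColimit ((ε C).mapCocone (Cofork.ofπ q w)))) :
    SGA4.IsEffectiveUniversalEquivRel p₁ p₂ := by
  obtain ⟨h1⟩ := (nonempty_mapCocone_iff (ε C) w).1 h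
  have hepi : Epi ((ε C).map q) := ⟨fun a b hab => Cofork.IsColimit.hom_ext h1 hab⟩
  -- the kernel pair of `ε q`
  obtain ⟨B, π, hpb, hpo, -⟩ := Sga4A.GiraudAxioms.isEffectiveUniversal (isEquivRel_ε hR)
  obtain ⟨h2⟩ := isColimit_of_isPushout hpo
  let e := h1.coconePointUniqueUpToIso h2
  have he : (ε C).map q ≫ e.hom = π :=
    h1.comp_coconePointUniqueUpToIso_hom h2 WalkingParallelPair.one
  have hpb1 : IsPullback ((ε C).map p₁) ((ε C).map p₂) ((ε C).map q) ((ε C).map q) :=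
    hpb.of_iso (Iso.refl _) (Iso.refl _) (Iso.refl _) e.symm (by simp) (by simp)
      (by simp [← he]) (by simp [← he])
  have hpb2 : IsPullback p₁ p₂ q q := IsPullback.of_map (ε C) w hpb1
  refine ⟨Q, q, hpb2, isPushout_of_isColimit hR w hc, fun B' g => ?_⟩
  rw [effectiveEpi_iff]
  intro Z
  have h3 : Epi ((ε C).map (pullback.snd q g)) :=
    epi_of_isPullback ((IsPullback.of_hasPullback q g).map (ε C))
  have h4 : Sieve.ofArrows (fun _ : PUnit.{u + 1} => pullback q g) (fun _ => pullback.snd q g) ∈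
      Sheaf.canonicalTopology C B' :=
    (CoprodCrit.js_eps_iff (fun _ : PUnit.{u + 1} => pullback q g)
      (fun _ => pullback.snd q g)).1 ((js_punit _).2 h3)
  rw [Presieve.isSheafFor_iff_generate]
  exact Sheaf.isSheaf_yoneda_obj Z _ h4

/-- S6140. -/
theorem main (hR : SGA4.IsEquivRel p₁ p₂) (c : Cofork p₁ p₂) (hc : IsColimit c) :
    SGA4.IsEffectiveUniversalEquivRel p₁ p₂ ↔
      Nonempty (IsColimit ((ε C).mapCocone c)) := by
  refine ⟨forward c hc, fun ⟨h⟩ => ?_⟩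
  let i : c ≅ Cofork.ofπ c.π c.condition := Cofork.isoCoforkOfπ c
  exact backward hR c.condition (hc.ofIsoColimit i)
    ⟨h.ofIsoColimit ((Cocone.functoriality _ (ε C)).mapIso i)⟩

end K290.CanonQuot
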