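import Mathlib.CategoryTheory.Limits.Presheaf
import Mathlib.CategoryTheory.Sites.Pullback
import Mathlib.CategoryTheory.Sites.LeftExact
import Mathlib.CategoryTheory.Sites.Canonical

/-! Left Kan extensions of representable presheaves, and inverse images of representable sheaves. -/

set_option autoImplicit false
universe u
open CategoryTheory CategoryTheory.Limits Opposite

namespace K290.LanYoneda

variable {C : Type u} [SmallCategory C] {D : Type u} [SmallCategory D] (F : C ⥤ D)

/-- `u_!` of a representable presheaf is representable. -/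
noncomputable def yonedaCompLan :
    (yoneda ⋙ F.op.lan : C ⥤ (Dᵒᵖ ⥤ Type u)) ≅ F ⋙ yoneda :=
  Functor.isoWhiskerRight (uliftYonedaIsoYoneda.{u}).symm F.op.lan ≪≫
    (Presheaf.compULiftYonedaIsoULiftYonedaCompLan.{u} F).symm ≪≫
      Functor.isoWhiskerLeft F uliftYonedaIsoYoneda.{u}

/-- `u_!` of the sheaf associated with a representable presheaf (subcanonical topologies). -/
noncomputable def yonedaCompSheafPullback (J : GrothendieckTopology C) (K : GrothendieckTopology D)
    [J.Subcanonical] [K.Subcanonical] [F.IsContinuous J K] :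
    J.yoneda ⋙ F.sheafPullback (Type u) J K ≅ F ⋙ K.yoneda :=
  Functor.isoWhiskerLeft J.yoneda
      (Functor.sheafPullbackConstruction.sheafPullbackIso F (Type u) J K) ≪≫
    (Functor.isoWhiskerRight (yonedaCompLan F) (presheafToSheaf K (Type u)) :
      (yoneda ⋙ F.op.lan) ⋙ presheafToSheaf K (Type u) ≅ (F ⋙ yoneda) ⋙ presheafToSheaf K (Type u)) ≪≫
      (Functor.isoWhiskerLeft (F ⋙ K.yoneda) (sheafificationNatIso K (Type u)).symm :
        (F ⋙ K.yoneda) ⋙ sheafToPresheaf K (Type u) ⋙ presheafToSheaf K (Type u) ≅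
          (F ⋙ K.yoneda) ⋙ 𝟭 _)

end K290.LanYoneda
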