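import Groth.Agent.SGA4.K290.Canon
import Groth.Agent.S6132
import Groth.Agent.S6139

/-! Disjoint universal coproducts and the canonical topology. -/

set_option autoImplicit false
universe u
open CategoryTheory CategoryTheory.Limits Opposite
open Groth.Agent

namespace K290.CanonCoprod

open K290.Canon

variable {C : Type u} [SmallCategory C] {X : C} {ι : Type u} (Y : ι → C) (s : ∀ i, Y i ⟶ X)
    [∀ (i : ι) (Z : C) (g : Z ⟶ X), HasPullback (s i) g]

/-- An object with two maps to distinct summands, equal on the coproduct, receives at most one map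
to any object. -/
lemma hom_eq (hu : IsUniversalColimit (Cofan.mk X s)) {i j : ι} (hij : i ≠ j) {W : C}
    (a : W ⟶ Y i) (b : W ⟶ Y j) (w : a ≫ s i = b ≫ s j) {Z : C} (f g : W ⟶ Z) : f = g := by
  classical
  obtain ⟨hc⟩ := isColimit_pullback s hu (a ≫ s i)
  let t : W ⟶ Z := Cofan.IsColimit.desc hc
    (fun k => pullback.snd (s k) (a ≫ s i) ≫ (if k = j then g else f))
  have ht : ∀ k, pullback.snd (s k) (a ≫ s i) ≫ t =
      pullback.snd (s k) (a ≫ s i) ≫ (if k = j then g else f) := fun k =>
    Cofan.IsColimit.fac hc (fun k => pullback.snd (s k) (a ≫ s i) ≫ (if k = j then g else f)) k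
  have h1 : t = f := by
    have := congrArg (fun x => pullback.lift a (𝟙 W) (by simp) ≫ x) (ht i)
    simpa [pullback.lift_snd_assoc, hij] using this
  have h2 : t = g := by
    have := congrArg (fun x => pullback.lift b (𝟙 W) (by simp [w]) ≫ x) (ht j)
    simpa [pullback.lift_snd_assoc] using this
  rw [← h1, ← h2]

theorem backward (hc : IsColimit (Cofan.mk X s)) (hd : CoproductDisjoint Y)
    (hu : IsUniversalColimit (Cofan.mk X s)) :
    Nonempty (IsColimit (Cofan.mk
        ((presheafToSheaf (Sheaf.canonicalTopology C) (Type u)).obj (yoneda.obj X))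
        (fun i => (presheafToSheaf (Sheaf.canonicalTopology C) (Type u)).map
          (yoneda.map (s i))))) := by
  apply S6132.result
  · apply mem_canonical
    intro X' g Z
    exact isSheafFor_of_isColimit _ (isColimit_pullback s hu g).some
  · intro i
    exact CoproductDisjoint.mono_inj hc i
  · intro i j hij
    rw [S6139.result]
    obtain ⟨hP⟩ := CoproductDisjoint.nonempty_isInitial_of_ne (X := Y) hc hij
      (PullbackCone.mk (pullback.fst (s i) (s j)) (pullback.snd (s i) (s j)) pullback.condition)
      ((IsPullback.of_hasPullback (s i) (s j)).isLimit)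
    change IsInitial (pullback (s i) (s j)) at hP
    refine ⟨⟨hP⟩, fun W f => ⟨⟨hP.to W, ?_, hP.hom_ext _ _⟩⟩⟩
    refine hom_eq Y s hu hij (f ≫ pullback.fst (s i) (s j)) (f ≫ pullback.snd (s i) (s j)) ?_ _ _
    rw [Category.assoc, pullback.condition, Category.assoc]

theorem forward (h : IsColimit (Cofan.mk
        ((presheafToSheaf (Sheaf.canonicalTopology C) (Type u)).obj (yoneda.obj X))
        (fun i => (presheafToSheaf (Sheaf.canonicalTopology C) (Type u)).map
          (yoneda.map (s i))))) :
    Nonempty (IsColimit (Cofan.mk X s)) ∧ CoproductDisjoint Y ∧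
      IsUniversalColimit (Cofan.mk X s) := by
  have hmap : IsColimit ((ε C).mapCocone (Cofan.mk X s)) :=
    (isColimitMapCoconeCofanMkEquiv (ε C) Y s).symm h
  have hc : IsColimit (Cofan.mk X s) := isColimitOfReflects (ε C) hmap
  obtain ⟨-, hmono, hdis⟩ := CoprodCrit.of_isColimit h
  have hm : ∀ i, Mono (s i) := fun i => by
    have := hmono i
    exact (ε C).mono_of_mono_map this
  refine ⟨⟨hc⟩, ?_, ?_⟩
  · have hm' : ∀ i, Mono ((Cofan.mk X s).inj i) := hm
    refine CoproductDisjoint.of_cofan hc
      (fun {i j} _ => PullbackCone.mk (pullback.fst (s i) (s j)) (pullback.snd (s i) (s j))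
        pullback.condition) (fun {i j} _ => (IsPullback.of_hasPullback (s i) (s j)).isLimit) (fun {i j} hij => ?_)
    have := hdis i j hij ((IsPullback.of_hasPullback (s i) (s j)).map (ε C))
    exact IsInitial.isInitialOfObj (ε C) _ this.some
  · intro F' c' α f hα hα' hsq
    have huniv := Sga4A.GiraudVK.isUniversalColimit_sheaf hmap
    have := huniv ((ε C).mapCocone c') (Functor.whiskerRight α (ε C)) ((ε C).map f) ?_
      (.of_discrete _) (fun j => (hsq j).map (ε C))
    · exact ⟨isColimitOfReflects (ε C) this.some⟩
    · ext j : 2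
      have := congrArg (fun t => (ε C).map (t.app j)) hα
      simpa using this

end K290.CanonCoprod
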