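import Mathlib.CategoryTheory.Sites.Point.Map
import Mathlib.CategoryTheory.Sites.Point.Conservative
import Mathlib.CategoryTheory.Sites.Over
import Mathlib.CategoryTheory.Sites.LocalProperties

/-! Points of the localised sites `C / X i`, pushed forward to `C`, form a conservative family if
the `X i` cover the final object. -/

set_option autoImplicit false
universe u
open CategoryTheory

namespace K290.PointsLocal

variable {C : Type u} [SmallCategory C] (J : GrothendieckTopology C) {ι : Type u}
    (X : ι → C) (P : ∀ i, ObjectProperty (GrothendieckTopology.Point.{u} (J.over (X i))))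

/-- The points of `C` coming from the points in `P i` of `C / X i`. -/
noncomputable abbrev pts : ObjectProperty (GrothendieckTopology.Point.{u} J) :=
  ObjectProperty.ofObj
    (fun p : Σ i, (P i).FullSubcategory => p.2.obj.map (Over.forget (X p.1)) J)

lemma small_pts (hP : ∀ i, ObjectProperty.Small.{u} (P i)) :
    ObjectProperty.Small.{u} (pts J X P) := inferInstance

lemma isIso_of (hX : J.CoversTop X)
    (hP : ∀ i, (P i).IsConservativeFamilyOfPoints) {F G : Sheaf J (Type u)} (f : F ⟶ G)
    (hf : ∀ i (Ψ : (P i).FullSubcategory),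
      IsIso ((Ψ.obj.map (Over.forget (X i)) J).sheafFiber.map f)) : IsIso f := by
  refine Sheaf.isIso_of_coversTop hX fun i => ?_
  have : ∀ Ψ : (P i).FullSubcategory, IsIso (Ψ.obj.sheafFiber.map
      (((Over.forget (X i)).sheafPushforwardContinuous (Type u) (J.over (X i)) J).map f)) :=
    fun Ψ => (NatIso.isIso_map_iff (Ψ.obj.sheafFiberMapIso (Over.forget (X i)) J (Type u)) f).1
      (hf i Ψ)
  exact (hP i).jointlyReflectIsomorphisms_type.isIso _

lemma isIso_fiber_of_pts {F G : Sheaf J (Type u)} (f : F ⟶ G)
    (hf : ∀ Φ : (pts J X P).FullSubcategory, IsIso (Φ.obj.sheafFiber.map f))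
    (i : ι) (Ψ : (P i).FullSubcategory) :
    IsIso ((Ψ.obj.map (Over.forget (X i)) J).sheafFiber.map f) := by
  have h1 : pts J X P (Ψ.obj.map (Over.forget (X i)) J) :=
    ObjectProperty.ofObj.mk (X := fun p : Σ i, (P i).FullSubcategory =>
      p.2.obj.map (Over.forget (X p.1)) J) (⟨i, Ψ⟩ : Σ i, (P i).FullSubcategory)
  exact hf ⟨Ψ.obj.map (Over.forget (X i)) J, h1⟩

lemma isConservative (hX : J.CoversTop X)
    (hP : ∀ i, (P i).IsConservativeFamilyOfPoints) :
    (pts J X P).IsConservativeFamilyOfPoints := by
  constructor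
  constructor
  intro F G f hf
  have h2 := isIso_fiber_of_pts J X P f hf
  exact isIso_of J X P hX hP f h2

lemma hasEnoughPoints (hX : J.CoversTop X)
    (h : ∀ i, GrothendieckTopology.HasEnoughPoints.{u} (J.over (X i))) :
    GrothendieckTopology.HasEnoughPoints.{u} J := by
  choose P hPs hP using fun i => (h i).exists_objectProperty
  exact ⟨⟨pts J X P, small_pts J X P hPs, isConservative J X P hX hP⟩⟩

end K290.PointsLocal
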