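import Groth.Prelude.Def_SGA4a
import Mathlib.CategoryTheory.Functor.Currying
import Mathlib.CategoryTheory.Products.Basic
import Mathlib.CategoryTheory.Sites.Sheaf
import Mathlib.CategoryTheory.Sites.SheafOfTypes
import Mathlib.CategoryTheory.Sites.Whiskering

/-! Functors from a small category to the topos of sheaves on a small site are sheaves on the
product site. -/

set_option autoImplicit false
universe v u
open CategoryTheory Opposite

namespace K290.FunTopos

variable {C : Type u} [SmallCategory C] (J : GrothendieckTopology C) (D : Type u) [SmallCategory D]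

variable {D} in
/-- The slice `{f | (𝟙, f) ∈ T}` of a sieve `T` on `(d, X)`. -/
def slice {X : Dᵒᵖ × C} (T : Sieve X) : Sieve X.2 where
  arrows Y f := T.arrows (Y := (X.1, Y)) (Prod.mkHom (𝟙 X.1) f)
  downward_closed := by
    intro Y Z f hf g
    have := T.downward_closed hf (Prod.mkHom (𝟙 X.1) g : (X.1, Z) ⟶ (X.1, Y))
    convert! this using 1
    ext
    · simp
    · simp

variable {D} in
lemma slice_iff {X : Dᵒᵖ × C} (T : Sieve X) {Y : C} (f : Y ⟶ X.2) :
    slice T f ↔ T.arrows (Y := (X.1, Y)) (Prod.mkHom (𝟙 X.1) f) := Iff.rfl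

/-- The topology on `Dᵒᵖ × C` whose covering sieves are those whose slice is covering. -/
def top : GrothendieckTopology (Dᵒᵖ × C) where
  sieves X := {T | slice T ∈ J X.2}
  top_mem' X := by
    have : slice (⊤ : Sieve X) = ⊤ := by
      ext Y f
      simp [slice_iff]
    change slice (⊤ : Sieve X) ∈ J X.2
    rw [this]
    exact J.top_mem _
  pullback_stable' X Y T g hT := by
    change slice (T.pullback g) ∈ J Y.2
    refine J.superset_covering ?_ (J.pullback_stable g.2 hT)
    intro Z f hf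
    change T.arrows _
    have := T.downward_closed hf (Prod.mkHom g.1 (𝟙 Z) : (Y.1, Z) ⟶ (X.1, Z))
    convert! this using 1
    ext
    · simp
    · simp
  transitive' X T hT R hR := by
    change slice R ∈ J X.2
    refine J.transitive hT _ ?_
    intro Y f hf
    have := hR hf
    refine J.superset_covering ?_ this
    intro Z g hg
    change R.arrows _
    change R.arrows _ at hg
    convert! hg using 1
    ext
    · simp
    · simp

variable {D}

lemma mem_top_iff {X : Dᵒᵖ × C} (T : Sieve X) : T ∈ top J D X ↔ slice T ∈ J X.2 := Iff.rfl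

/-- The restriction of a presheaf on `Dᵒᵖ × C` to `{d} × C`. -/
abbrev sl (F : (Dᵒᵖ × C)ᵒᵖ ⥤ Type u) (d : Dᵒᵖ) : Cᵒᵖ ⥤ Type u := (Prod.sectR d C).op ⋙ F

lemma map_map {F : (Dᵒᵖ × C)ᵒᵖ ⥤ Type u} {X Y Z : Dᵒᵖ × C} (f : Y ⟶ X) (g : Z ⟶ Y) (h : Z ⟶ X)
    (w : g ≫ f = h) (x : F.obj (op X)) : F.map g.op (F.map f.op x) = F.map h.op x := by
  rw [← w, op_comp, Functor.map_comp_apply]

lemma isSheaf_top_iff (F : (Dᵒᵖ × C)ᵒᵖ ⥤ Type u) :
    Presieve.IsSheaf (top J D) F ↔ ∀ d : Dᵒᵖ, Presieve.IsSheaf J (sl F d) := by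
  constructor
  · intro hF d X S hS x hx
    -- the sieve `{(a, f) | f ∈ S}`
    let T : Sieve ((d, X) : Dᵒᵖ × C) :=
      { arrows := fun Y f => S.arrows f.2
        downward_closed := fun {Y Z f} hf g => S.downward_closed hf g.2 }
    have hT : T ∈ top J D (d, X) := by
      have : slice T = S := by
        ext Y f
        exact Iff.rfl
      rw [mem_top_iff, this]
      exact hS
    have hx' := (Presieve.compatible_iff_sieveCompatible x).1 hx
    let y : Presieve.FamilyOfElements F T.arrows := fun Y f hf =>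
      F.map (Prod.mkHom f.1 (𝟙 Y.2) : Y ⟶ (d, Y.2)).op (x f.2 hf)
    have hy : y.Compatible := by
      rw [Presieve.compatible_iff_sieveCompatible]
      intro Y Z f g hf
      have h1 := hx' f.2 g.2 hf
      change F.map _ (x (g.2 ≫ f.2) _) = F.map g.op (F.map _ (x f.2 hf))
      rw [h1]
      change F.map (Prod.mkHom (g.1 ≫ f.1) (𝟙 Z.2)).op (F.map (Prod.mkHom (𝟙 d) g.2).op _) = _
      rw [map_map _ _ (Prod.mkHom (g.1 ≫ f.1) g.2 : Z ⟶ (d, Y.2)) (by ext <;> simp)]
      exact (map_map _ _ _ (by ext <;> simp) _).symm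
    obtain ⟨t, ht, hu⟩ := hF T hT y hy
    refine ⟨t, ?_, ?_⟩
    · intro Y f hf
      have := ht (Y := (d, Y)) (Prod.mkHom (𝟙 d) f) hf
      refine Eq.trans this ?_
      exact ConcreteCategory.congr_hom (F.map_id (op (d, Y))) _
    · intro t' ht'
      apply hu
      intro Y f hf
      change _ = F.map _ (x f.2 hf)
      rw [← ht' f.2 hf]
      exact (map_map _ _ _ (by ext <;> simp) _).symm
  · intro hF X T hT y hy
    have hy' := (Presieve.compatible_iff_sieveCompatible y).1 hy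
    let x : Presieve.FamilyOfElements (sl F X.1) (slice T).arrows := fun Y f hf =>
      y (Y := (X.1, Y)) (Prod.mkHom (𝟙 X.1) f) hf
    have hx : x.Compatible := by
      rw [Presieve.compatible_iff_sieveCompatible]
      intro Y Z f g hf
      have h1 := hy' (Prod.mkHom (𝟙 X.1) f : (X.1, Y) ⟶ X) (Prod.mkHom (𝟙 X.1) g : (X.1, Z) ⟶ (X.1, Y)) hf
      refine Eq.trans ?_ h1
      change y _ _ = y _ _
      congr 1
      ext <;> simp
    obtain ⟨t, ht, hu⟩ := hF X.1 (slice T) hT x hx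
    refine ⟨t, ?_, ?_⟩
    · intro Y f hf
      have hs := (hF Y.1).isSeparated (X := Y.2) _ (J.pullback_stable f.2 hT)
      refine hs.ext ?_
      intro Z g hg
      have h1 := ht (g ≫ f.2) hg
      change F.map (Prod.mkHom (𝟙 Y.1) g : (Y.1, Z) ⟶ Y).op (F.map f.op t) =
        F.map (Prod.mkHom (𝟙 Y.1) g : (Y.1, Z) ⟶ Y).op (y f hf)
      rw [map_map _ _ (Prod.mkHom f.1 (g ≫ f.2) : (Y.1, Z) ⟶ X) (by ext <;> simp),
        ← hy' f (Prod.mkHom (𝟙 Y.1) g : (Y.1, Z) ⟶ Y) hf]
      have h2 := hy' (Prod.mkHom (𝟙 X.1) (g ≫ f.2) : (X.1, Z) ⟶ X)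
        (Prod.mkHom f.1 (𝟙 Z) : (Y.1, Z) ⟶ (X.1, Z)) hg
      have h3 : F.map (Prod.mkHom f.1 (g ≫ f.2) : (Y.1, Z) ⟶ X).op t =
          F.map (Prod.mkHom f.1 (𝟙 Z) : (Y.1, Z) ⟶ (X.1, Z)).op (x (g ≫ f.2) hg) := by
        rw [← h1]
        exact (map_map _ _ _ (by ext <;> simp) _).symm
      rw [h3]
      refine h2.symm.trans ?_
      congr 1
      ext <;> simp
    · intro t' ht'
      apply hu
      intro Y f hf
      exact ht' (Prod.mkHom (𝟙 X.1) f : (X.1, Y) ⟶ X) hf

/-- The restriction functor from presheaves on `Dᵒᵖ × C` to functors to presheaves on `C`. -/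
def w : (Dᵒᵖ × C)ᵒᵖ ≌ D × Cᵒᵖ :=
  (prodOpEquiv Dᵒᵖ).trans ((opOpEquivalence D).prod CategoryTheory.Equivalence.refl)

/-- Functors to presheaves are presheaves on the product. -/
def e : (D ⥤ Cᵒᵖ ⥤ Type u) ≌ ((Dᵒᵖ × C)ᵒᵖ ⥤ Type u) :=
  Functor.currying.trans (w (C := C) (D := D)).symm.congrLeft

lemma e_obj_iff (G : D ⥤ Cᵒᵖ ⥤ Type u) :
    Presheaf.IsSheaf (top J D) (e.functor.obj G) ↔ ∀ d : D, Presheaf.IsSheaf J (G.obj d) := by
  rw [isSheaf_iff_isSheaf_of_type, isSheaf_top_iff]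
  have h : ∀ d : D, Presieve.IsSheaf J (sl (e.functor.obj G) (op d)) ↔
      Presheaf.IsSheaf J (G.obj d) := by
    intro d
    rw [← isSheaf_iff_isSheaf_of_type]
    apply Presheaf.isSheaf_of_iso_iff
    exact NatIso.ofComponents (fun X => Iso.refl _) (by
      intro X Y f
      change ((G.map (𝟙 d)).app X ≫ (G.obj d).map f) ≫ 𝟙 _ = 𝟙 _ ≫ (G.obj d).map f
      simp)
  exact ⟨fun H d => (h d).1 (H (op d)), fun H d => (h d.unop).2 (H d.unop)⟩

/-- The functor from functors to sheaves to sheaves on the product site. -/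
noncomputable def Ψ : (D ⥤ Sheaf J (Type u)) ⥤ Sheaf (top J D) (Type u) :=
  ObjectProperty.lift _ ((Functor.whiskeringRight D _ _).obj (sheafToPresheaf J (Type u)) ⋙
    e.functor) (fun G => (e_obj_iff J _).2 (fun d => (G.obj d).property))

noncomputable def ffΨ : (Ψ J (D := D)).FullyFaithful :=
  Functor.FullyFaithful.ofCompFaithful (G := sheafToPresheaf (top J D) (Type u))
    (((fullyFaithfulSheafToPresheaf J (Type u)).whiskeringRight D).comp
      (e (C := C) (D := D)).fullyFaithfulFunctor)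

instance : (Ψ J (D := D)).EssSurj where
  mem_essImage F := by
    have h := (e_obj_iff J (e.inverse.obj F.obj)).1
      ((Presheaf.isSheaf_of_iso_iff (e.counitIso.app F.obj)).2 F.property)
    let G : D ⥤ Sheaf J (Type u) := ObjectProperty.lift _ (e.inverse.obj F.obj) h
    exact ⟨G, ⟨(fullyFaithfulSheafToPresheaf _ _).preimageIso (e.counitIso.app F.obj)⟩⟩

instance : (Ψ J (D := D)).IsEquivalence where
  faithful := (ffΨ J).faithful
  full := (ffΨ J).full

/-- S8569. -/
theorem isTopos {E : Type v} [Category.{u} E] (hE : SGA4.IsTopos E)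
    (D : Type u) [SmallCategory D] : SGA4.IsTopos (D ⥤ E) := by
  obtain ⟨C, _, J, ⟨eq⟩⟩ := hE
  exact ⟨Dᵒᵖ × C, inferInstance, top J D, ⟨eq.congrRight.trans (Ψ J).asEquivalence⟩⟩

end K290.FunTopos
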