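import Groth.Agent.SGA4.K290.CoprodCrit
import Mathlib.CategoryTheory.Sites.Canonical
import Mathlib.CategoryTheory.Limits.Preserves.Shapes.Products
import Mathlib.CategoryTheory.Limits.FullSubcategory

/-! The canonical functor from a small category to sheaves for its canonical topology; covering
families for the canonical topology. -/

set_option autoImplicit false
universe v u
open CategoryTheory CategoryTheory.Limits Opposite

namespace K290.Canon

section

variable {C : Type u} [Category.{v} C]

/-- A family all of whose base changes satisfy the sheaf condition for representable presheaves is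
covering for the canonical topology. -/
lemma mem_canonical {X : C} {ι : Type u} {Y : ι → C} (s : ∀ i, Y i ⟶ X)
    [∀ (i : ι) (Z : C) (g : Z ⟶ X), HasPullback (s i) g]
    (h : ∀ (X' : C) (g : X' ⟶ X) (Z : C), Presieve.IsSheafFor (yoneda.obj Z)
      (Presieve.ofArrows (fun i => pullback (s i) g) (fun i => pullback.snd (s i) g))) :
    Sieve.ofArrows Y s ∈ Sheaf.canonicalTopology C X := by
  refine Sheaf.mem_finestTopology_of_forall_isSheafFor ?_
  rintro _ ⟨Z, rfl⟩ X' g
  have e : (Sieve.ofArrows Y s).pullback g =
      Sieve.ofArrows (fun i => pullback (s i) g) (fun i => pullback.snd (s i) g) := by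
    ext W w
    constructor
    · rintro ⟨T, a, b, ⟨i⟩, hab⟩
      exact ⟨_, pullback.lift a w hab, _, ⟨i⟩, pullback.lift_snd _ _ _⟩
    · rintro ⟨T, a, b, ⟨i⟩, rfl⟩
      refine ⟨_, a ≫ pullback.fst (s i) g, _, ⟨i⟩, ?_⟩
      rw [Category.assoc, Category.assoc, pullback.condition]
  rw [e, ← Presieve.isSheafFor_iff_generate]
  exact h X' g Z

/-- Sheaf condition for a coproduct. -/
lemma isSheafFor_of_isColimit {X Z : C} {ι : Type u} {Y : ι → C} (s : ∀ i, Y i ⟶ X)
    (hc : IsColimit (Cofan.mk X s)) :
    Presieve.IsSheafFor (yoneda.obj Z) (Presieve.ofArrows Y s) := by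
  rw [Presieve.isSheafFor_arrows_iff]
  intro x _
  refine ⟨Cofan.IsColimit.desc hc x, fun i => Cofan.IsColimit.fac hc x i, fun t ht => ?_⟩
  refine Cofan.IsColimit.hom_ext hc _ _ fun i => ?_
  exact (ht i).trans (Cofan.IsColimit.fac hc x i).symm

/-- Base change of a universal coproduct. -/
lemma isColimit_pullback {X : C} {ι : Type u} {Y : ι → C} (s : ∀ i, Y i ⟶ X)
    [∀ (i : ι) (Z : C) (g : Z ⟶ X), HasPullback (s i) g]
    (hu : IsUniversalColimit (Cofan.mk X s)) {X' : C} (g : X' ⟶ X) :
    Nonempty (IsColimit (Cofan.mk X' (fun i => pullback.snd (s i) g))) := by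
  refine hu (Cofan.mk X' (fun i => pullback.snd (s i) g))
    (Discrete.natTrans fun i => pullback.fst (s i.as) g) g ?_ (.of_discrete _) ?_
  · ext ⟨i⟩
    exact pullback.condition
  · rintro ⟨i⟩
    exact (IsPullback.of_hasPullback (s i) g).flip

end

section

variable (C : Type u) [SmallCategory C]

/-- The canonical functor to sheaves for the canonical topology. -/
noncomputable abbrev ε : C ⥤ Sheaf (Sheaf.canonicalTopology C) (Type u) :=
  yoneda ⋙ presheafToSheaf (Sheaf.canonicalTopology C) (Type u)

/-- `ε` is the Yoneda embedding. -/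
noncomputable def εIso : ε C ≅ (Sheaf.canonicalTopology C).yoneda :=
  (Functor.isoWhiskerLeft (Sheaf.canonicalTopology C).yoneda
    (sheafificationNatIso (Sheaf.canonicalTopology C) (Type u)).symm :
      (Sheaf.canonicalTopology C).yoneda ⋙ sheafToPresheaf _ (Type u) ⋙ presheafToSheaf _ (Type u) ≅
        (Sheaf.canonicalTopology C).yoneda ⋙ 𝟭 _)

instance full_ε : (ε C).Full := Functor.Full.of_iso (εIso C).symm

instance faithful_ε : (ε C).Faithful := Functor.Faithful.of_iso (εIso C).symm

instance preservesLimit_ε {J : Type*} [Category J] (F : J ⥤ C) [FinCategory J] :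
    PreservesLimit F (ε C) := inferInstance

end

end K290.Canon
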